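import Groth.Agent.Lib.Lead.RS.CompDeg

/-! # `Rⁿ(F ⋙ G) M ≅ G (Rⁿ F M)` when the `Rⁿ F M` are `G`-acyclic, naturally in `M`. -/

set_option autoImplicit false
universe v v' v'' u u' u''
open CategoryTheory Limits

namespace Groth.Agent.LD.RS

variable {𝒜 : Type u''} [Category.{v''} 𝒜] [Abelian 𝒜] [HasInjectiveResolutions 𝒜]
  {ℬ : Type u} [Category.{v} ℬ] [Abelian ℬ] {𝒞 : Type u'} [Category.{v'} 𝒞] [Abelian 𝒞]
  (F : 𝒜 ⥤ ℬ) [F.Additive] (G : ℬ ⥤ 𝒞) [G.Additive] [PreservesFiniteLimits G]
  {P : ℬ → Prop} (hP : AcycClass G P) (hF : ∀ I : 𝒜, Injective I → P (F.obj I))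

/-- the complex `F(I•)`. -/
noncomputable abbrev cx (M : 𝒜) : CochainComplex ℬ ℕ :=
  (F.mapHomologicalComplex _).obj (injectiveResolution M).cocomplex

/-- all `Rⁿ F M` are acyclic. -/
def Good (P : ℬ → Prop) (M : 𝒜) : Prop := ∀ n, P ((F.rightDerived n).obj M)

include hP hF in
lemma preserves (M : 𝒜) (hM : Good F P M) (n : ℕ) :
    G.PreservesLeftHomologyOf ((cx F M).sc n) :=
  preservesLeftHomologyOf hP (cx F M)
    (fun k => hF _ ((injectiveResolution M).injective k))
    (fun k => hP.iso ((injectiveResolution M).isoRightDerivedObj F k) (hM k)) n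

/-- the comparison isomorphism. -/
noncomputable def compIso (M : 𝒜) (hM : Good F P M) (n : ℕ) :
    ((F ⋙ G).rightDerived n).obj M ≅ G.obj ((F.rightDerived n).obj M) :=
  haveI := preserves F G hP hF M hM n
  (injectiveResolution M).isoRightDerivedObj (F ⋙ G) n ≪≫
    ((cx F M).sc n).mapHomologyIso G ≪≫
    G.mapIso ((injectiveResolution M).isoRightDerivedObj F n).symm


/-- a lift of `φ` to the chosen injective resolutions. -/
noncomputable abbrev resMap {M M' : 𝒜} (φ : M ⟶ M') :
    (injectiveResolution M).cocomplex ⟶ (injectiveResolution M').cocomplex :=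
  InjectiveResolution.desc φ (injectiveResolution M') (injectiveResolution M)

lemma resMap_comm {M M' : 𝒜} (φ : M ⟶ M') :
    (injectiveResolution M).ι.f 0 ≫ (resMap φ).f 0 = φ ≫ (injectiveResolution M').ι.f 0 :=
  InjectiveResolution.desc_commutes_zero φ (injectiveResolution M') (injectiveResolution M)

/-- naturality of the comparison isomorphism. -/
theorem compIso_hom_naturality {M M' : 𝒜} (φ : M ⟶ M') (hM : Good F P M) (hM' : Good F P M')
    (n : ℕ) :
    ((F ⋙ G).rightDerived n).map φ ≫ (compIso F G hP hF M' hM' n).hom =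
      (compIso F G hP hF M hM n).hom ≫ G.map ((F.rightDerived n).map φ) := by
  haveI := preserves F G hP hF M hM n
  haveI := preserves F G hP hF M' hM' n
  have h1 := InjectiveResolution.isoRightDerivedObj_hom_naturality φ (injectiveResolution M)
    (injectiveResolution M') (resMap φ) (resMap_comm φ) (F ⋙ G) n
  have h3 := InjectiveResolution.isoRightDerivedObj_inv_naturality φ (injectiveResolution M)
    (injectiveResolution M') (resMap φ) (resMap_comm φ) F n
  let χ : (cx F M).sc n ⟶ (cx F M').sc n :=
    (HomologicalComplex.shortComplexFunctor ℬ _ n).map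
      ((F.mapHomologicalComplex _).map (resMap φ))
  have h2 := ShortComplex.mapHomologyIso_hom_naturality (F := G) χ
  have h2' : ((F ⋙ G).mapHomologicalComplex (ComplexShape.up ℕ) ⋙
      HomologicalComplex.homologyFunctor 𝒞 (ComplexShape.up ℕ) n).map (resMap φ) ≫
      (((cx F M').sc n).mapHomologyIso G).hom =
      (((cx F M).sc n).mapHomologyIso G).hom ≫ G.map (ShortComplex.homologyMap χ) := h2
  have h4 : G.map (ShortComplex.homologyMap χ) ≫
      G.map ((injectiveResolution M').isoRightDerivedObj F n).inv =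
      G.map ((injectiveResolution M).isoRightDerivedObj F n).inv ≫
        G.map ((F.rightDerived n).map φ) := by
    rw [← G.map_comp (((injectiveResolution M).isoRightDerivedObj F n).inv), h3]
    exact (G.map_comp _ _).symm
  dsimp only [compIso, Iso.trans_hom, Functor.mapIso_hom, Iso.symm_hom]
  simp only [Category.assoc]
  rw [reassoc_of% h1, reassoc_of% h2']
  refine congrArg (((injectiveResolution M).isoRightDerivedObj (F ⋙ G) n).hom ≫ ·) ?_
  exact (Category.assoc _ _ _).trans
    (congrArg ((((cx F M).sc n).mapHomologyIso G).hom ≫ ·) h4)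

end Groth.Agent.LD.RS
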