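import Groth.Agent.Lib.Lead.RS.Sections
import Groth.Agent.Lib.Lead.QC.FinType
import Groth.Agent.Lib.Lead.QC.SubExt
import Groth.Agent.Lib.Lead.QC.SubExtRestrict

/-! # Coherence of higher direct images along proper morphisms (EGA III 3.2.1). -/

set_option autoImplicit false
universe u
open CategoryTheory Limits Opposite Abelian TopologicalSpace AlgebraicGeometry

namespace Groth.Agent.LD.RS

open Groth.Agent.LD

/-- finiteness of coherent cohomology over Noetherian affine bases (S0002). -/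
def FinCoh : Prop :=
  ∀ (A : Type u) [CommRing A] [IsNoetherianRing A] (Y : Scheme.{u})
    [Y.Over (Spec (CommRingCat.of A))] [IsProper (Y ↘ Spec (CommRingCat.of A))]
    (N : Y.Modules), Coh.IsCoh N → ∀ n : ℕ, Module.Finite A (Coh.HH Y N n)

variable {X S : Scheme.{u}} (f : X ⟶ S) [HasInjectiveResolutions X.Modules]

theorem finite_sections_Rpush_affine (hfin : FinCoh.{u}) [IsProper f] [IsAffine S]
    [IsNoetherianRing Γ(S, ⊤)] (M : X.Modules) (hM : Coh.IsCoh M) (n : ℕ) :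
    Module.Finite Γ(S, ⊤) Γ(RN f M n, ⊤) := by
  letI : X.Over (Spec (CommRingCat.of Γ(S, ⊤))) := ⟨f ≫ S.isoSpec.hom⟩
  haveI : IsProper (X ↘ Spec (CommRingCat.of Γ(S, ⊤))) := by
    change IsProper (f ≫ S.isoSpec.hom)
    infer_instance
  haveI := hM.1
  obtain ⟨e⟩ := nonempty_sections_linearEquiv f M n
  haveI := hfin Γ(S, ⊤) X M hM n
  exact Module.Finite.equiv e.symm

/-- **coherence of higher direct images** along a proper morphism to a locally Noetherian
scheme. -/
theorem isCoh_Rpush (hfin : FinCoh.{u}) [IsProper f] [IsLocallyNoetherian S]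
    (M : X.Modules) (hM : Coh.IsCoh M) (i : ℕ) : Coh.IsCoh ((Coh.Rpush f i).obj M) := by
  haveI := hM.1
  haveI hqc : (RN f M i).IsQuasicoherent := QCQS.qc_Rpush f M i
  refine ⟨hqc, ?_⟩
  apply QC.isFiniteType_of_finite_sections
  intro x
  obtain ⟨V, hV, hxV, -⟩ := exists_isAffineOpen_mem_and_subset (x := x) (U := ⊤) trivial
  refine ⟨V, hV, hxV, ?_⟩
  haveI := QCQS.hasInjRes (f ⁻¹ᵁ V).toScheme
  haveI : IsAffine V.toScheme := hV
  obtain ⟨e⟩ := QCQS.nonempty_restrict_Rpush_iso f V M i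
  haveI hqcM : (M.restrict (f ⁻¹ᵁ V).ι).IsQuasicoherent := QC.qc_restrict _ M
  have hcoh : Coh.IsCoh (M.restrict (f ⁻¹ᵁ V).ι) := ⟨hqcM, QC.isFiniteType_restrict _ M hM.2⟩
  haveI : IsNoetherianRing Γ(V.toScheme, ⊤) :=
    IsLocallyNoetherian.component_noetherian ⟨⊤, isAffineOpen_top _⟩
  have hfs := finite_sections_Rpush_affine (f ∣_ V) hfin (M.restrict (f ⁻¹ᵁ V).ι) hcoh i
  haveI hqc' : (RN (f ∣_ V) (M.restrict (f ⁻¹ᵁ V).ι) i).IsQuasicoherent :=
    QCQS.qc_Rpush (f ∣_ V) _ i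
  have hft' : (RN (f ∣_ V) (M.restrict (f ⁻¹ᵁ V).ι) i).IsFiniteType :=
    QC.isFiniteType_of_finite_sections _ fun y => ⟨⊤, isAffineOpen_top _, trivial, hfs⟩
  have hft : ((RN f M i).restrict V.ι).IsFiniteType := QC.isFiniteType_of_iso e.symm hft'
  exact QC.finite_sections_of_restrict_isFiniteType (RN f M i) V hft hV le_rfl

end Groth.Agent.LD.RS
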