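import Groth.Agent.Lib.Lead.RS.SectionsOn
import Groth.Agent.Lib.Lead.QC.Stalk
import Groth.Agent.Lib.Lead.FBC.Final2
import Groth.Agent.Lib.Lead.CohLES.Basic

/-! # The stalk of a higher direct image is the cohomology of the base change to the local ring:
`(Rⁿ f_* M)_y ≃ₗ[O_{Y,y}] Hⁿ(X ×_Y Spec O_{Y,y}, g^* M)`. -/

set_option autoImplicit false
universe u
open CategoryTheory Limits Opposite Abelian TopologicalSpace AlgebraicGeometry TensorProduct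

namespace Groth.Agent.LD.RS

open Groth.Agent.LD

variable {X Y : Scheme.{u}} (f : X ⟶ Y)

section Square

variable (y : Y) {X₁ : Scheme.{u}} (f₁ : X₁ ⟶ Spec (Y.presheaf.stalk y))
  (g : X₁ ⟶ X) (hsq : IsPullback g f₁ f (Y.fromSpecStalk y)) (V : Y.Opens) (hy : y ∈ V)

include hsq hy in
lemma range_g_subset : Set.range g ⊆ Set.range (f ⁻¹ᵁ V).ι := by
  rw [Scheme.Opens.range_ι]
  rintro _ ⟨x₁, rfl⟩
  change f (g x₁) ∈ V
  have h1 : f (g x₁) = (Y.fromSpecStalk y) (f₁ x₁) := by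
    have := congrArg (fun φ : X₁ ⟶ Y => φ x₁) hsq.w
    exact this
  rw [h1, ← V.fromSpecStalkOfMem_ι y hy]
  exact ((V.fromSpecStalkOfMem y hy) (f₁ x₁)).2

/-- the lift of `g` to `f⁻¹V`. -/
noncomputable def g₁ : X₁ ⟶ (f ⁻¹ᵁ V).toScheme :=
  IsOpenImmersion.lift (f ⁻¹ᵁ V).ι g (range_g_subset f y f₁ g hsq V hy)

lemma g₁_ι : g₁ f y f₁ g hsq V hy ≫ (f ⁻¹ᵁ V).ι = g :=
  IsOpenImmersion.lift_fac _ _ _

include hsq in
theorem isPullback_g₁ (hV : IsAffineOpen V) :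
    IsPullback (g₁ f y f₁ g hsq V hy) f₁ ((f ∣_ V) ≫ V.toSpecΓ)
      (Spec.map (Y.presheaf.germ V y hy)) := by
  have hw : g₁ f y f₁ g hsq V hy ≫ (f ∣_ V) = f₁ ≫ V.fromSpecStalkOfMem y hy := by
    rw [← cancel_mono V.ι, Category.assoc, Category.assoc, V.fromSpecStalkOfMem_ι,
      morphismRestrict_ι, ← Category.assoc, g₁_ι]
    exact hsq.w
  have s : IsPullback (g₁ f y f₁ g hsq V hy ≫ (f ⁻¹ᵁ V).ι) f₁ f
      (V.fromSpecStalkOfMem y hy ≫ V.ι) := by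
    rw [g₁_ι, V.fromSpecStalkOfMem_ι]
    exact hsq
  have t := (isPullback_morphismRestrict f V).flip
  have h1 := IsPullback.of_right s hw t
  haveI : IsIso V.toSpecΓ := inferInstanceAs (IsIso hV.isoSpec.hom)
  have h2 : IsPullback (V.fromSpecStalkOfMem y hy) (𝟙 _) V.toSpecΓ
      (Spec.map (Y.presheaf.germ V y hy)) :=
    IsPullback.of_vert_isIso ⟨by rw [V.fromSpecStalkOfMem_toSpecΓ, Category.id_comp]⟩
  have h3 := h1.paste_vert h2
  rwa [Category.comp_id] at h3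

end Square

section Main

variable [HasInjectiveResolutions X.Modules] [QuasiCompact f] [QuasiSeparated f]
  (y : Y) {X₁ : Scheme.{u}} [X₁.Over (Spec (CommRingCat.of (Y.presheaf.stalk y)))]
  (g : X₁ ⟶ X)
  (hsq : IsPullback g (X₁ ↘ Spec (CommRingCat.of (Y.presheaf.stalk y))) f (Y.fromSpecStalk y))
  (M : X.Modules) [M.IsQuasicoherent] (n : ℕ)

/-- linear equivalence on cohomology induced by an isomorphism of modules. -/
noncomputable def HHequiv (A : Type u) [CommRing A] {Z : Scheme.{u}}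
    [Z.Over (Spec (CommRingCat.of A))] {P Q : Z.Modules} (θ : P ≅ Q) (n : ℕ) :
    Coh.HH Z P n ≃ₗ[A] Coh.HH Z Q n :=
  LinearEquiv.ofLinear (CL.HHmap A θ.hom n) (CL.HHmap A θ.inv n)
    (by rw [← CL.HHmap_comp, θ.inv_hom_id, CL.HHmap_id])
    (by rw [← CL.HHmap_comp, θ.hom_inv_id, CL.HHmap_id])

/-- the stalk of a quasi-coherent module at a point of an affine open is the base change of the
sections. -/
theorem nonempty_stalk_baseChange (N : Y.Modules) [N.IsQuasicoherent] {V : Y.Opens}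
    (hV : IsAffineOpen V) (hy : y ∈ V) :
    letI : Algebra Γ(Y, V) (Y.presheaf.stalk y) :=
      TopCat.Presheaf.algebra_section_stalk Y.presheaf ⟨y, hy⟩
    Nonempty (TensorProduct Γ(Y, V) (Y.presheaf.stalk y) Γ(N, V) ≃ₗ[Y.presheaf.stalk y]
      N.presheaf.stalk y) := by
  letI : Algebra Γ(Y, V) (Y.presheaf.stalk y) :=
    TopCat.Presheaf.algebra_section_stalk Y.presheaf ⟨y, hy⟩
  letI := QC.stalkΓModule N y V hy
  haveI : IsScalarTower Γ(Y, V) (Y.presheaf.stalk y) (N.presheaf.stalk y) :=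
    IsScalarTower.of_algebraMap_smul (fun r m => rfl)
  haveI := QC.isLocalizedModule_germ N hV y hy
  haveI := hV.isLocalization_stalk ⟨y, hy⟩
  exact ⟨(IsLocalizedModule.isBaseChange (hV.primeIdealOf ⟨y, hy⟩).asIdeal.primeCompl
    (Y.presheaf.stalk y) (QC.germLinear N y V hy)).equiv⟩

include hsq in
/-- **The stalk of `Rⁿ f_* M` at `y` is the cohomology of the base change to `Spec O_{Y,y}`.** -/
theorem nonempty_stalk_linearEquiv :
    Nonempty ((RN f M n).presheaf.stalk y ≃ₗ[Y.presheaf.stalk y]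
      Coh.HH X₁ ((Scheme.Modules.pullback g).obj M) n) := by
  obtain ⟨V, hV, hy⟩ : ∃ V : Y.Opens, IsAffineOpen V ∧ y ∈ V := by
    obtain ⟨_, ⟨V, hV, rfl⟩, hy, -⟩ :=
      Y.isBasis_affineOpens.exists_subset_of_mem_open (Set.mem_univ y) isOpen_univ
    exact ⟨V, hV, hy⟩
  haveI := QCQS.qc_Rpush f M n
  letI algBA : Algebra Γ(Y, V) (Y.presheaf.stalk y) :=
    TopCat.Presheaf.algebra_section_stalk Y.presheaf ⟨y, hy⟩
  obtain ⟨e1⟩ := nonempty_stalk_baseChange y (RN f M n) hV hy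
  letI ov : (f ⁻¹ᵁ V).toScheme.Over (Spec (CommRingCat.of Γ(Y, V))) := ⟨(f ∣_ V) ≫ V.toSpecΓ⟩
  obtain ⟨e2⟩ := nonempty_sectionsOn_linearEquiv f V hV M n
  haveI := hV.isLocalization_stalk ⟨y, hy⟩
  haveI : Module.Flat Γ(Y, V) (Y.presheaf.stalk y) :=
    IsLocalization.flat _ (hV.primeIdealOf ⟨y, hy⟩).asIdeal.primeCompl
  haveI : CompactSpace (f ⁻¹ᵁ V).toScheme :=
    isCompact_iff_compactSpace.mp (f.isCompact_preimage hV.isCompact)
  haveI : IsAffine V.toScheme := hV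
  haveI : QuasiSeparatedSpace (f ⁻¹ᵁ V).toScheme := quasiSeparatedSpace_of_quasiSeparated (f ∣_ V)
  haveI : (M.restrict (f ⁻¹ᵁ V).ι).IsQuasicoherent := QC.qc_restrict _ M
  let f₁ : X₁ ⟶ Spec (Y.presheaf.stalk y) := X₁ ↘ Spec (CommRingCat.of (Y.presheaf.stalk y))
  obtain ⟨e3⟩ := FBC.flat_base_change (g₁ f y f₁ g hsq V hy) (A := Γ(Y, V))
    (B := Y.presheaf.stalk y) ((f ∣_ V) ≫ V.toSpecΓ)
    (X₁ ↘ Spec (CommRingCat.of (Y.presheaf.stalk y)))
    (isPullback_g₁ f y f₁ g hsq V hy hV) (M.restrict (f ⁻¹ᵁ V).ι) n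
  let θ : (Scheme.Modules.pullback (g₁ f y f₁ g hsq V hy)).obj (M.restrict (f ⁻¹ᵁ V).ι) ≅
      (Scheme.Modules.pullback g).obj M :=
    (Scheme.Modules.pullback (g₁ f y f₁ g hsq V hy)).mapIso
        ((Scheme.Modules.restrictFunctorIsoPullback (f ⁻¹ᵁ V).ι).app M) ≪≫
      (Scheme.Modules.pullbackComp (g₁ f y f₁ g hsq V hy) (f ⁻¹ᵁ V).ι).app M ≪≫
      (Scheme.Modules.pullbackCongr (g₁_ι f y f₁ g hsq V hy)).app M
  exact ⟨e1.symm ≪≫ₗ (LinearEquiv.baseChange Γ(Y, V) (Y.presheaf.stalk y) _ _ e2) ≪≫ₗ e3 ≪≫ₗ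
    HHequiv (Y.presheaf.stalk y) θ n⟩

end Main

end Groth.Agent.LD.RS
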