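import Groth.Agent.Lib.Lead.RS.StalkFF
import Groth.Agent.Lib.Lead.SC.FiniteFibre
import Groth.Agent.Lib.Helper5.GV.Main
import Groth.Agent.Lib.Helper2.FormalEq2
import Groth.Agent.Lib.Lead.Stein.Vanish
import Groth.Agent.Lib.Lead.QC.AnnIdeal
import Groth.Agent.Lib.Lead.QC.ClosedUnit
import Groth.Agent.Lib.Lead.CohLES.PushEquiv

/-! # Higher direct images vanish above the dimension of the fibre (EGA III 4.2.2, S0042). -/

set_option autoImplicit false
universe u
open CategoryTheory Limits Opposite Abelian AlgebraicGeometry TopologicalSpace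

namespace Groth.Agent.LD.SC

open Groth.Agent.LD.QC Groth.Agent.LD.QCQS Groth.Agent.LD.RP

section Killed

variable {A : Type u} [CommRing A] {X : Scheme.{u}} [X.Over (Spec (CommRingCat.of A))]

/-- the support of a module killed by `J` lies over `V(J)`. -/
theorem le_asIdeal_of_mem_support_of_killedBy (J : Ideal A) (M : X.Modules)
    (h : Formal.KilledBy J M) (x : X) (hx : x ∈ CohB1.support M) :
    J ≤ ((X ↘ Spec (CommRingCat.of A)).base x).asIdeal := by
  by_contra hJ
  obtain ⟨a, haJ, hax⟩ := Set.not_subset.mp hJ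
  apply hx
  have hxW : x ∈ X.basicOpen (Stein.gl A X a) := (Stein.mem_basicOpen_gl a x).mpr hax
  refine ⟨fun s t => ?_⟩
  suffices h0 : ∀ t : M.presheaf.stalk x, t = 0 by rw [h0 s, h0 t]
  intro t
  obtain ⟨W, hW, s, rfl⟩ := TopCat.Presheaf.germ_exist M.presheaf (x := x) t
  let W' : X.Opens := W ⊓ X.basicOpen (Stein.gl A X a)
  have hle : W' ≤ W := inf_le_left
  have hxW' : x ∈ W' := ⟨hW, hxW⟩
  rw [← TopCat.Presheaf.germ_res_apply M.presheaf (homOfLE hle) x hxW' s]
  haveI : Subsingleton Γ(M, W') :=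
    Stein.subsingleton_of_le_basicOpen M a (h a haJ) W' inf_le_right
  have h0 : (ConcreteCategory.hom (M.presheaf.map (homOfLE hle).op)) s = 0 :=
    Subsingleton.elim (α := Γ(M, W')) _ _
  rw [h0, map_zero]

end Killed

section Dim

variable {X Y : Scheme.{u}} (f : X ⟶ Y) (y : Y)
  (X₁ : Scheme.{u}) [X₁.Over (Spec (CommRingCat.of (Y.presheaf.stalk y)))] (g : X₁ ⟶ X)
  (hsq : IsPullback g (X₁ ↘ Spec (CommRingCat.of (Y.presheaf.stalk y))) f (Y.fromSpecStalk y))

include hsq in
/-- a subspace of the closed fibre of `X ×_Y Spec O_{Y,y}` has dimension at most that of the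
fibre of `f` at `y`. -/
theorem topologicalKrullDim_le_fiber {Z : Scheme.{u}} (i : Z ⟶ X₁) [IsClosedImmersion i]
    (hz : ∀ z : Z, (X₁ ↘ Spec (CommRingCat.of (Y.presheaf.stalk y))).base (i.base z) =
      IsLocalRing.closedPoint (Y.presheaf.stalk y)) :
    topologicalKrullDim Z ≤ topologicalKrullDim ↥(f.fiber y) := by
  haveI hg : IsPreimmersion g :=
    MorphismProperty.of_isPullback (P := @IsPreimmersion) hsq.flip inferInstance
  have hmem : ∀ z : Z, g.base (i.base z) ∈ f ⁻¹' {y} := by
    intro z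
    have h1 : f.base (g.base (i.base z)) =
        (Y.fromSpecStalk y).base
          ((X₁ ↘ Spec (CommRingCat.of (Y.presheaf.stalk y))).base (i.base z)) := by
      have := congrArg (fun φ : X₁ ⟶ Y => φ.base (i.base z)) hsq.w
      simpa using this
    show f.base (g.base (i.base z)) = y
    rw [h1, hz z]
    exact Scheme.fromSpecStalk_closedPoint
  let φ : Z → ↥(f ⁻¹' {y}) := fun z => ⟨g.base (i.base z), hmem z⟩
  have hφc : Continuous φ :=
    Continuous.subtype_mk (g.base.hom.continuous.comp i.base.hom.continuous) _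
  have hcomp : Topology.IsInducing (Subtype.val ∘ φ) :=
    (g.isEmbedding.isInducing.comp i.isEmbedding.isInducing)
  have hφ : Topology.IsInducing φ :=
    Topology.IsInducing.of_comp hφc continuous_subtype_val hcomp
  have h2 : Topology.IsInducing ((f.fiberHomeo y).symm ∘ φ) :=
    (f.fiberHomeo y).symm.isInducing.comp hφ
  exact h2.topologicalKrullDim_le

end Dim

section Main

variable {X Y : Scheme.{u}} (f : X ⟶ Y) [IsProper f] [IsLocallyNoetherian Y] (y : Y)
  (X₁ : Scheme.{u}) [X₁.Over (Spec (CommRingCat.of (Y.presheaf.stalk y)))] (g : X₁ ⟶ X)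
  (hsq : IsPullback g (X₁ ↘ Spec (CommRingCat.of (Y.presheaf.stalk y))) f (Y.fromSpecStalk y))

include hsq in
/-- cohomology of coherent modules killed by a power of the maximal ideal vanishes above the
dimension of the fibre. -/
theorem subsingleton_HH_of_killedBy_pow (d : ℕ) (hd : topologicalKrullDim ↥(f.fiber y) ≤ d)
    (G : X₁.Modules) (hG : Coh.IsCoh G) (n : ℕ)
    (hk : Formal.KilledBy (IsLocalRing.maximalIdeal (Y.presheaf.stalk y) ^ n) G)
    (p : ℕ) (hp : d < p) : Subsingleton (Coh.HH X₁ G p) := by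
  haveI := hG.1
  haveI : IsProper (X₁ ↘ Spec (CommRingCat.of (Y.presheaf.stalk y))) :=
    MorphismProperty.of_isPullback (P := @IsProper) hsq inferInstance
  haveI : IsLocallyNoetherian X₁ :=
    LocallyOfFiniteType.isLocallyNoetherian (X₁ ↘ Spec (CommRingCat.of (Y.presheaf.stalk y)))
  haveI : CompactSpace X₁ :=
    (quasiCompact_iff_compactSpace (X₁ ↘ Spec (CommRingCat.of (Y.presheaf.stalk y)))).mp
      inferInstance
  let I := QC.annIdeal G hG.2
  have hr : Set.range I.subschemeι = CohB1.support G := by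
    rw [I.range_subschemeι]
    exact QC.support_annIdeal G hG.2
  have hiso : IsIso ((Scheme.Modules.pullbackPushforwardAdjunction I.subschemeι).unit.app G) := by
    rw [QC.isIso_unit_closedImmersion_iff]
    intro U a ha s
    rw [Scheme.IdealSheafData.ker_subschemeι] at ha
    exact Module.mem_annihilator.mp ha s
  haveI : IsLocallyNoetherian I.subscheme :=
    LocallyOfFiniteType.isLocallyNoetherian I.subschemeι
  haveI : CompactSpace I.subscheme := I.subschemeι.isClosedEmbedding.compactSpace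
  have hz : ∀ z : I.subscheme,
      (X₁ ↘ Spec (CommRingCat.of (Y.presheaf.stalk y))).base (I.subschemeι.base z) =
        IsLocalRing.closedPoint (Y.presheaf.stalk y) := by
    intro z
    have hzs : I.subschemeι.base z ∈ CohB1.support G := hr ▸ ⟨z, rfl⟩
    have hle := le_asIdeal_of_mem_support_of_killedBy _ G hk _ hzs
    have hle' : IsLocalRing.maximalIdeal (Y.presheaf.stalk y) ≤
        ((X₁ ↘ Spec (CommRingCat.of (Y.presheaf.stalk y))).base (I.subschemeι.base z)).asIdeal :=
      (PrimeSpectrum.isPrime _).le_of_pow_le hle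
    apply PrimeSpectrum.ext
    exact ((IsLocalRing.maximalIdeal.isMaximal _).eq_of_le
      (PrimeSpectrum.isPrime _).ne_top hle').symm
  have hdim : topologicalKrullDim I.subscheme ≤ d :=
    (topologicalKrullDim_le_fiber f y X₁ g hsq I.subschemeι hz).trans hd
  have hcoh : Coh.IsCoh ((Scheme.Modules.pullback I.subschemeι).obj G) :=
    ⟨QC.qc_pullback _ G, QC.isFiniteType_pullback _ G hG.2⟩
  haveI h1 : Subsingleton (Coh.HH I.subscheme ((Scheme.Modules.pullback I.subschemeι).obj G) p) :=
    Groth.Agent.H5.GV.subsingleton_HH_of_isCoh d hdim _ hcoh p hp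
  have h2 : Subsingleton (Coh.HH X₁ ((Scheme.Modules.pushforward I.subschemeι).obj
      ((Scheme.Modules.pullback I.subschemeι).obj G)) p) :=
    (CL.HHpush_bijective I.subschemeι _ p).2.subsingleton
  exact Groth.Agent.H5.GG.subsingleton_HH_of_iso
    (asIso ((Scheme.Modules.pullbackPushforwardAdjunction I.subschemeι).unit.app G)) p h2

/-- **EGA III 4.2.2** (S0042). -/
theorem isZero_stalk_RpushAb_of_fiber_dim (hfin : RS.FinCoh.{u}) (hFF : RS.FormalHyp.{u})
    (d : ℕ) (hd : topologicalKrullDim ↥(f.fiber y) ≤ d)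
    (M : X.Modules) (hM : Coh.IsCoh M) (p : ℕ) (hp : d < p) :
    IsZero (TopCat.Presheaf.stalk ((Coh.RpushAb f p).obj (Coh.toAb M)).obj y) := by
  haveI := hasInjRes X
  haveI := hM.1
  letI : (pullback f (Y.fromSpecStalk y)).Over (Spec (CommRingCat.of (Y.presheaf.stalk y))) :=
    ⟨pullback.snd f (Y.fromSpecStalk y)⟩
  have hsq' : IsPullback (pullback.fst f (Y.fromSpecStalk y))
      ((pullback f (Y.fromSpecStalk y)) ↘ Spec (CommRingCat.of (Y.presheaf.stalk y))) f
      (Y.fromSpecStalk y) := IsPullback.of_hasPullback f (Y.fromSpecStalk y)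
  have hF₁ : Coh.IsCoh ((Scheme.Modules.pullback (pullback.fst f (Y.fromSpecStalk y))).obj M) :=
    ⟨QC.qc_pullback _ M, QC.isFiniteType_pullback _ M hM.2⟩
  have hlim : Formal.HHlim (IsLocalRing.maximalIdeal (Y.presheaf.stalk y))
      ((Scheme.Modules.pullback (pullback.fst f (Y.fromSpecStalk y))).obj M) p = ⊥ := by
    rw [eq_bot_iff]
    intro x _
    rw [AddSubgroup.mem_bot]
    funext n
    haveI : Subsingleton (Formal.HHmodPow (IsLocalRing.maximalIdeal (Y.presheaf.stalk y))
        ((Scheme.Modules.pullback (pullback.fst f (Y.fromSpecStalk y))).obj M) p n) :=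
      subsingleton_HH_of_killedBy_pow f y _ _ hsq' d hd _
        (Groth.Agent.H2.FormalEq.isCoh_modPow _ (n + 1) hF₁) (n + 1)
        (Groth.Agent.H2.FormalEq.killedBy_modPow _ (n + 1) _) p hp
    exact Subsingleton.elim _ _
  obtain ⟨V, hyV, hzV⟩ := RS.exists_nbhd_isZero_Rpush f hfin hFF M hM y p _ _ hsq' hlim
  have h1 := isZero_stalk_toAb_of_isZero_restrict ((Coh.Rpush f p).obj M) V y hyV hzV
  obtain ⟨e⟩ := nonempty_toAb_Rpush_iso f M p
  refine h1.of_iso ?_
  exact ((TopCat.Presheaf.stalkFunctor AddCommGrpCat.{u} y).mapIso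
    ((sheafToPresheaf _ _).mapIso e)).symm

end Main

end Groth.Agent.LD.SC
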