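import Mathlib

/-! # Right derived functors commute with the action of the centre. -/

set_option autoImplicit false
universe v v' u u'
open CategoryTheory Limits

namespace Groth.Agent.LD.RS

variable {𝒜 : Type u} [Category.{v} 𝒜] [Abelian 𝒜] [HasInjectiveResolutions 𝒜]
  {ℬ : Type u'} [Category.{v'} ℬ] [Abelian ℬ]

/-- a natural endomorphism of the identity acts on the homology of a complex through its action
on the homology object. -/
lemma homologyMap_center (w : 𝟭 ℬ ⟶ 𝟭 ℬ) (K : CochainComplex ℬ ℕ) (χ : K ⟶ K)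
    (hχ : ∀ k, χ.f k = w.app (K.X k)) (n : ℕ) :
    HomologicalComplex.homologyMap χ n = w.app (K.homology n) := by
  have h1 : HomologicalComplex.cyclesMap χ n = w.app (K.cycles n) := by
    rw [← cancel_mono (K.iCycles n), HomologicalComplex.cyclesMap_i, hχ]
    exact w.naturality (K.iCycles n)
  rw [← cancel_epi (K.homologyπ n), HomologicalComplex.homologyπ_naturality, h1]
  exact (w.naturality (K.homologyπ n)).symm

variable (Φ : 𝒜 ⥤ ℬ) [Φ.Additive]

theorem rightDerived_map_center (z : 𝟭 𝒜 ⟶ 𝟭 𝒜) (w : 𝟭 ℬ ⟶ 𝟭 ℬ)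
    (h : ∀ M : 𝒜, Φ.map (z.app M) = w.app (Φ.obj M)) (M : 𝒜) (n : ℕ) :
    (Φ.rightDerived n).map (z.app M) = w.app ((Φ.rightDerived n).obj M) := by
  let I := injectiveResolution M
  let ψ : I.cocomplex ⟶ I.cocomplex :=
    { f := fun k => z.app (I.cocomplex.X k)
      comm' := fun i j _ => (z.naturality (I.cocomplex.d i j)).symm }
  have comm : I.ι.f 0 ≫ ψ.f 0 = z.app M ≫ I.ι.f 0 := z.naturality (I.ι.f 0)
  have h1 := InjectiveResolution.isoRightDerivedObj_hom_naturality (z.app M) I I ψ comm Φ n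
  have h2 : (Φ.mapHomologicalComplex _ ⋙ HomologicalComplex.homologyFunctor _ _ n).map ψ =
      w.app _ :=
    homologyMap_center w _ ((Φ.mapHomologicalComplex _).map ψ) (fun k => h _) n
  rw [h2] at h1
  have h3 := w.naturality (I.isoRightDerivedObj Φ n).hom
  rw [← cancel_mono (I.isoRightDerivedObj Φ n).hom, h1]
  exact h3

end Groth.Agent.LD.RS
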