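import Groth.Agent.Lib.Lead.RS.GammaF
import Groth.Agent.Lib.Lead.RS.Center
import Groth.Agent.Lib.Lead.QCQS.Main
import Groth.Agent.Lib.Lead.CohLES.DualLin

/-! # Sections of higher direct images over an affine base:
`Γ(S, Rⁿ f_* M) ≅ Hⁿ(X, M)` for `f` quasi-compact quasi-separated, `S` affine, `M` quasi-coherent,
naturally in `M`. -/

set_option autoImplicit false
universe u
open CategoryTheory Limits Opposite Abelian TopologicalSpace AlgebraicGeometry

namespace Groth.Agent.LD.RS

open Groth.Agent.H8.LC Groth.Agent.LD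

variable {X S : Scheme.{u}} (f : X ⟶ S) [HasInjectiveResolutions X.Modules]

/-- quasi-coherent modules on an affine scheme are acyclic. -/
lemma hAcyc_of_qc [IsAffine S] (N : S.Modules) [N.IsQuasicoherent] : HAcyc S N := fun p =>
  SC.subsingleton_H_of_subsingleton_ext (T := (⊤ : S.Opens)) isTerminalTop _ _
    (SC.subsingleton_ext_of_isAffineOpen N p ⊤ (isAffineOpen_top S))

lemma good_of_qc [QuasiCompact f] [QuasiSeparated f] [IsAffine S] (M : X.Modules)
    [M.IsQuasicoherent] : Good (Scheme.Modules.pushforward f) (HAcyc S) M := fun n =>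
  haveI := QCQS.qc_Rpush f M n
  hAcyc_of_qc _

theorem enoughInjectives (X : Scheme.{u}) : EnoughInjectives X.Modules := by
  haveI := Groth.Agent.H1.sheafOfModules_isGrothendieckAbelian
    (Opens.grothendieckTopology X) X.ringCatSheaf
  exact inferInstanceAs (EnoughInjectives (SheafOfModules.{u} X.ringCatSheaf))

instance (X : Scheme.{u}) : ((HΔ X).F 0).Additive := inferInstanceAs (HF X 0).Additive

/-- the universal δ-functor comparison. -/
noncomputable def rdIso (n : ℕ) :
    (Scheme.Modules.pushforward f ⋙ ΓF S).rightDerived n ≅ HF X n :=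
  haveI := enoughInjectives X
  DeltaFunctor.rightDerivedIso (HΔ X) (HΔ_effaceable X) (Scheme.Modules.pushforward f ⋙ ΓF S)
    (e0 f) n

section

variable [QuasiCompact f] [QuasiSeparated f] [IsAffine S]

/-- **sections of higher direct images over an affine base.** -/
noncomputable def secIso (M : X.Modules) [M.IsQuasicoherent] (n : ℕ) :
    (ΓF S).obj (((Scheme.Modules.pushforward f).rightDerived n).obj M) ≅ (HF X n).obj M :=
  (compIso (Scheme.Modules.pushforward f) (ΓF S) acycClass
    (fun I hI => @hAcyc_push_injective _ _ f I hI) M (good_of_qc f M) n).symm ≪≫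
    (rdIso f n).app M

theorem secIso_naturality {M M' : X.Modules} [M.IsQuasicoherent] [M'.IsQuasicoherent]
    (φ : M ⟶ M') (n : ℕ) :
    (ΓF S).map (((Scheme.Modules.pushforward f).rightDerived n).map φ) ≫ (secIso f M' n).hom =
      (secIso f M n).hom ≫ (HF X n).map φ := by
  have h1 := compIso_hom_naturality (Scheme.Modules.pushforward f) (ΓF S) acycClass
    (fun I hI => @hAcyc_push_injective _ _ f I hI) φ (good_of_qc f M) (good_of_qc f M') n
  have h2 := (rdIso f n).hom.naturality φ
  dsimp only [secIso, Iso.trans_hom, Iso.symm_hom, Iso.app_hom]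
  have h1' : (ΓF S).map (((Scheme.Modules.pushforward f).rightDerived n).map φ) ≫
      (compIso (Scheme.Modules.pushforward f) (ΓF S) acycClass
        (fun I hI => @hAcyc_push_injective _ _ f I hI) M' (good_of_qc f M') n).inv =
      (compIso (Scheme.Modules.pushforward f) (ΓF S) acycClass
        (fun I hI => @hAcyc_push_injective _ _ f I hI) M (good_of_qc f M) n).inv ≫
      ((Scheme.Modules.pushforward f ⋙ ΓF S).rightDerived n).map φ := by
    rw [Iso.comp_inv_eq, Category.assoc, h1, Iso.inv_hom_id_assoc]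
  refine (Category.assoc _ _ _).symm.trans ?_
  refine (congrArg (· ≫ (rdIso f n).hom.app M') h1').trans ?_
  refine (Category.assoc _ _ _).trans ?_
  refine (congrArg (_ ≫ ·) h2).trans ?_
  exact (Category.assoc _ _ _).symm

end


section Linear

instance (X : Scheme.{u}) : (SC.toAbF X).Faithful :=
  inferInstanceAs (SheafOfModules.toSheaf.{u} X.ringCatSheaf).Faithful

/-- multiplication by a global function, as a natural endomorphism of the identity. -/
noncomputable def smulNat (X : Scheme.{u}) (r : Coh.Γtop X) : 𝟭 X.Modules ⟶ 𝟭 X.Modules where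
  app M := Formal.smulModΓ M r
  naturality M N φ := by
    apply (SC.toAbF X).map_injective
    exact ((SC.toAbF X).map_comp φ (Formal.smulModΓ N r)).trans
      ((CL.smulAb_naturality φ r).symm.trans
        ((SC.toAbF X).map_comp (Formal.smulModΓ M r) φ).symm)

/-- pullback of global functions. -/
noncomputable def pb : Coh.Γtop S →+* Coh.Γtop X := f.appTop.hom

lemma resTop_pb (a : Coh.Γtop S) (V : S.Opens) :
    Coh.resTop X (op (f ⁻¹ᵁ V)) (pb f a) = (f.app V).hom (Coh.resTop S (op V) a) := by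
  have h := f.naturality (homOfLE (le_top : V ≤ ⊤)).op
  exact (ConcreteCategory.congr_hom h a).symm

lemma pushforward_map_smulModΓ (M : X.Modules) (a : Coh.Γtop S) :
    (Scheme.Modules.pushforward f).map (Formal.smulModΓ M (pb f a)) =
      Formal.smulModΓ ((Scheme.Modules.pushforward f).obj M) a := by
  apply (SC.toAbF S).map_injective
  apply Sheaf.hom_ext
  ext V m
  change @HSMul.hSMul (X.ringCatSheaf.obj.obj (op (f ⁻¹ᵁ V.unop)))
    (M.val.obj (op (f ⁻¹ᵁ V.unop))) (M.val.obj (op (f ⁻¹ᵁ V.unop))) _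
    (Coh.resTop X (op (f ⁻¹ᵁ V.unop)) (pb f a)) m = _
  rw [resTop_pb]
  rfl

lemma ΓF_map_smulModΓ (N : S.Modules) (a : Coh.Γtop S) (t : N.val.obj (op ⊤)) :
    ((ΓF S).map (Formal.smulModΓ N a)).hom t = a • t := by
  change Coh.resTop S (op ⊤) a • t = a • t
  congr 1
  change (S.ringCatSheaf.obj.map (𝟙 _)).hom a = a
  rw [CategoryTheory.Functor.map_id]
  rfl

theorem Rpush_map_smulModΓ (M : X.Modules) (a : Coh.Γtop S) (n : ℕ) :
    ((Scheme.Modules.pushforward f).rightDerived n).map (Formal.smulModΓ M (pb f a)) =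
      Formal.smulModΓ (((Scheme.Modules.pushforward f).rightDerived n).obj M) a :=
  rightDerived_map_center (Scheme.Modules.pushforward f) (smulNat X (pb f a)) (smulNat S a)
    (fun M => pushforward_map_smulModΓ f M a) M n

end Linear

section Final

variable [QuasiCompact f] [QuasiSeparated f] [IsAffine S]

/-- `Rⁿ f_* M`. -/
noncomputable abbrev RN (M : X.Modules) (n : ℕ) : S.Modules :=
  ((Scheme.Modules.pushforward f).rightDerived n).obj M

/-- the additive equivalence `Γ(S, Rⁿ f_* M) ≃ Hⁿ(X, M)`. -/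
noncomputable def secEquiv (M : X.Modules) [M.IsQuasicoherent] (n : ℕ) :
    Γ(RN f M n, ⊤) ≃+ Coh.HH X M n :=
  (secIso f M n).addCommGroupIsoToAddEquiv

theorem secEquiv_naturality {M M' : X.Modules} [M.IsQuasicoherent] [M'.IsQuasicoherent]
    (φ : M ⟶ M') (n : ℕ) (t : Γ(RN f M n, ⊤)) :
    secEquiv f M' n (((ΓF S).map (((Scheme.Modules.pushforward f).rightDerived n).map φ)).hom t) =
      Sheaf.H.map ((SC.toAbF X).map φ) n (secEquiv f M n t) :=
  ConcreteCategory.congr_hom (secIso_naturality f φ n) t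

theorem secEquiv_smul (M : X.Modules) [M.IsQuasicoherent] (n : ℕ) (a : Γ(S, ⊤))
    (t : Γ(RN f M n, ⊤)) :
    secEquiv f M n (a • t) = (pb f a : Coh.Γtop X) • secEquiv f M n t := by
  have h := secEquiv_naturality f (Formal.smulModΓ M (pb f a)) n t
  rw [Rpush_map_smulModΓ] at h
  exact (congrArg (secEquiv f M n) (ΓF_map_smulModΓ _ a t).symm).trans h

lemma toGlobal_isoSpec (a : Γ(S, ⊤)) :
    Coh.toGlobal (f ≫ S.isoSpec.hom) a = pb f a := by
  change (f ≫ S.isoSpec.hom).appTop.hom ((Scheme.ΓSpecIso Γ(S, ⊤)).inv.hom a) = f.appTop.hom a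
  rw [Scheme.Hom.comp_appTop, Scheme.isoSpec_hom, Scheme.toSpecΓ_appTop]
  change f.appTop.hom ((Scheme.ΓSpecIso Γ(S, ⊤)).hom.hom ((Scheme.ΓSpecIso Γ(S, ⊤)).inv.hom a)) = _
  congr 1
  exact ConcreteCategory.congr_hom (Scheme.ΓSpecIso Γ(S, ⊤)).inv_hom_id a

/-- **sections of higher direct images over an affine base**, linear form. -/
theorem nonempty_sections_linearEquiv (M : X.Modules) [M.IsQuasicoherent] (n : ℕ) :
    letI : X.Over (Spec (CommRingCat.of Γ(S, ⊤))) := ⟨f ≫ S.isoSpec.hom⟩
    Nonempty (Γ(RN f M n, ⊤) ≃ₗ[Γ(S, ⊤)] Coh.HH X M n) := by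
  letI : X.Over (Spec (CommRingCat.of Γ(S, ⊤))) := ⟨f ≫ S.isoSpec.hom⟩
  refine ⟨{ (secEquiv f M n) with map_smul' := fun a t => ?_ }⟩
  change secEquiv f M n (a • t) = (Coh.toGlobal (f ≫ S.isoSpec.hom) a : Coh.Γtop X) • _
  rw [toGlobal_isoSpec]
  exact secEquiv_smul f M n a t

end Final

end Groth.Agent.LD.RS
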