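import Groth.Agent.Lib.Lead.RS.StalkBC
import Groth.Agent.Lib.Lead.RS.Coherent
import Groth.Agent.Lib.Lead.QC.Pullback
import Groth.Agent.Lib.Lead.QC.StalkNbhd
import Groth.Prelude.Def_Formal

/-! # The theorem on formal functions for the stalks of higher direct images (EGA III 4.1.5 form)
and the local vanishing criterion (EGA III 4.2.1 form). -/

set_option autoImplicit false
universe u
open CategoryTheory Limits Opposite Abelian TopologicalSpace AlgebraicGeometry TensorProduct

namespace Groth.Agent.LD.RS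

open Groth.Agent.LD

/-- the theorem on formal functions over an affine Noetherian base, as a hypothesis (S0059). -/
def FormalHyp : Prop :=
  ∀ (A : Type u) [CommRing A] [IsNoetherianRing A] (I : Ideal A)
    (X : Scheme.{u}) [X.Over (Spec (CommRingCat.of A))] [IsProper (X ↘ Spec (CommRingCat.of A))]
    (M : X.Modules) (_ : Coh.IsCoh M) (p : ℕ),
    Nonempty (AdicCompletion I (Coh.HH X M p) ≃+ Formal.HHlim I M p)

variable {X Y : Scheme.{u}}

theorem finite_stalk (N : Y.Modules) (hN : Coh.IsCoh N) (y : Y) :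
    Module.Finite (Y.presheaf.stalk y) (N.presheaf.stalk y) := by
  haveI : N.IsQuasicoherent := hN.1
  obtain ⟨V, hV, hy⟩ : ∃ V : Y.Opens, IsAffineOpen V ∧ y ∈ V := by
    obtain ⟨_, ⟨V, hV, rfl⟩, hy, -⟩ :=
      Y.isBasis_affineOpens.exists_subset_of_mem_open (Set.mem_univ y) isOpen_univ
    exact ⟨V, hV, hy⟩
  letI algBA : Algebra Γ(Y, V) (Y.presheaf.stalk y) :=
    TopCat.Presheaf.algebra_section_stalk Y.presheaf ⟨y, hy⟩
  obtain ⟨e1⟩ := nonempty_stalk_baseChange y N hV hy
  haveI : Module.Finite Γ(Y, V) Γ(N, V) := QC.finite_sections_of_isFiniteType N hN.2 hV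
  exact Module.Finite.equiv e1

variable (f : X ⟶ Y) [IsProper f] [IsLocallyNoetherian Y] [HasInjectiveResolutions X.Modules]
  (hfin : FinCoh.{u}) (hFF : FormalHyp.{u})
  (F : X.Modules) (hF : Coh.IsCoh F) (y : Y) (p : ℕ)
  (X₁ : Scheme.{u}) [X₁.Over (Spec (CommRingCat.of (Y.presheaf.stalk y)))] (g : X₁ ⟶ X)
  (hsq : IsPullback g (X₁ ↘ Spec (CommRingCat.of (Y.presheaf.stalk y))) f (Y.fromSpecStalk y))

include hfin hFF hF hsq in
/-- **S4467** -/
theorem stalk_formal :
    Module.Finite (Y.presheaf.stalk y) (((Coh.Rpush f p).obj F).presheaf.stalk y) ∧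
    Nonempty (AdicCompletion (IsLocalRing.maximalIdeal (Y.presheaf.stalk y))
        (((Coh.Rpush f p).obj F).presheaf.stalk y) ≃+
      Formal.HHlim (IsLocalRing.maximalIdeal (Y.presheaf.stalk y))
        ((Scheme.Modules.pullback g).obj F) p) := by
  haveI : F.IsQuasicoherent := hF.1
  have hN : Coh.IsCoh ((Coh.Rpush f p).obj F) := isCoh_Rpush f hfin F hF p
  refine ⟨finite_stalk _ hN y, ?_⟩
  obtain ⟨e⟩ := nonempty_stalk_linearEquiv f y g hsq F p
  haveI : IsProper (X₁ ↘ Spec (CommRingCat.of (Y.presheaf.stalk y))) :=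
    MorphismProperty.of_isPullback (P := @IsProper) hsq inferInstance
  have hG : Coh.IsCoh ((Scheme.Modules.pullback g).obj F) :=
    ⟨QC.qc_pullback g F, QC.isFiniteType_pullback g F hF.2⟩
  obtain ⟨e'⟩ := hFF (Y.presheaf.stalk y) (IsLocalRing.maximalIdeal (Y.presheaf.stalk y)) X₁
    ((Scheme.Modules.pullback g).obj F) hG p
  exact ⟨((AdicCompletion.congr (IsLocalRing.maximalIdeal (Y.presheaf.stalk y)) e).toAddEquiv).trans
    e'⟩

include hfin hFF hF hsq in
/-- **S7844** -/
theorem exists_nbhd_isZero_Rpush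
    (hlim : Formal.HHlim (IsLocalRing.maximalIdeal (Y.presheaf.stalk y))
      ((Scheme.Modules.pullback g).obj F) p = ⊥) :
    ∃ V : Y.Opens, y ∈ V ∧ Limits.IsZero ((((Coh.Rpush f p).obj F)).restrict V.ι) := by
  obtain ⟨hfinite, ⟨e⟩⟩ := stalk_formal f hfin hFF F hF y p X₁ g hsq
  have hN : Coh.IsCoh ((Coh.Rpush f p).obj F) := isCoh_Rpush f hfin F hF p
  haveI : Subsingleton (Formal.HHlim (IsLocalRing.maximalIdeal (Y.presheaf.stalk y))
      ((Scheme.Modules.pullback g).obj F) p) := by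
    rw [hlim]; infer_instance
  haveI : Subsingleton (AdicCompletion (IsLocalRing.maximalIdeal (Y.presheaf.stalk y))
      (((Coh.Rpush f p).obj F).presheaf.stalk y)) := e.toEquiv.subsingleton
  have hs : Subsingleton (((Coh.Rpush f p).obj F).presheaf.stalk y) :=
    (AdicCompletion.of_injective (I := IsLocalRing.maximalIdeal (Y.presheaf.stalk y))
      (M := ((Coh.Rpush f p).obj F).presheaf.stalk y)).subsingleton
  obtain ⟨V, hyV, hV⟩ := QC.exists_nbhd_stalks_zero _ hN.2 y hs
  exact ⟨V, hyV, QC.isZero_restrict_of_stalks _ V hV⟩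

end Groth.Agent.LD.RS
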