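import Mathlib

/-! # A left exact functor commutes with the homology of a complex of acyclic objects whose
homology objects are acyclic (the degenerate case of the Grothendieck spectral sequence). -/

set_option autoImplicit false
universe v v' u u'
open CategoryTheory Limits

namespace Groth.Agent.LD.RS

variable {ℬ : Type u} [Category.{v} ℬ] [Abelian ℬ] {𝒞 : Type u'} [Category.{v'} 𝒞] [Abelian 𝒞]
  (G : ℬ ⥤ 𝒞) [G.Additive] [PreservesFiniteLimits G]

/-- A class of `G`-acyclic objects. -/
structure AcycClass (P : ℬ → Prop) : Prop where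
  iso : ∀ {B B' : ℬ}, (B ≅ B') → P B → P B'
  epi : ∀ (S : ShortComplex ℬ), S.ShortExact → P S.X₁ → Epi (G.map S.g)
  coker : ∀ (S : ShortComplex ℬ), S.ShortExact → P S.X₁ → P S.X₂ → P S.X₃
  ext : ∀ (S : ShortComplex ℬ), S.ShortExact → P S.X₁ → P S.X₃ → P S.X₂

/-- the lift of `f'` to the kernel of `π`. -/
noncomputable abbrev bLift {S : ShortComplex ℬ} (h : S.LeftHomologyData) : S.X₁ ⟶ kernel h.π :=
  kernel.lift h.π h.f' h.f'_π

lemma epi_bLift {S : ShortComplex ℬ} (h : S.LeftHomologyData) : Epi (bLift h) := by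
  have hex : (ShortComplex.mk h.f' h.π h.f'_π).Exact :=
    ShortComplex.exact_of_g_is_cokernel _ h.hπ'
  exact (ShortComplex.exact_iff_epi_kernel_lift _).mp hex

/-- the short exact sequence `0 → B → Z → H → 0`. -/
noncomputable abbrev scα {S : ShortComplex ℬ} (h : S.LeftHomologyData) : ShortComplex ℬ :=
  ShortComplex.mk (kernel.ι h.π) h.π (kernel.condition _)

lemma scα_shortExact {S : ShortComplex ℬ} (h : S.LeftHomologyData) : (scα h).ShortExact where
  exact := ShortComplex.exact_of_f_is_kernel _ (kernelIsKernel _)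

/-- the short exact sequence `0 → ker → X₁ → B → 0`. -/
noncomputable abbrev scβ {S : ShortComplex ℬ} (h : S.LeftHomologyData) : ShortComplex ℬ :=
  ShortComplex.mk (kernel.ι (bLift h)) (bLift h) (kernel.condition _)

lemma scβ_shortExact {S : ShortComplex ℬ} (h : S.LeftHomologyData) : (scβ h).ShortExact where
  exact := ShortComplex.exact_of_f_is_kernel _ (kernelIsKernel _)
  epi_g := epi_bLift h

/-- the kernel of `X₁ → B` is the kernel of `S.f`. -/
noncomputable def kerBLiftIso {S : ShortComplex ℬ} (h : S.LeftHomologyData) :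
    kernel (bLift h) ≅ kernel S.f where
  hom := kernel.lift _ (kernel.ι _) (by
    have : bLift h ≫ kernel.ι h.π ≫ h.i = S.f := by
      rw [kernel.lift_ι_assoc, h.f'_i]
    rw [← this, kernel.condition_assoc, zero_comp])
  inv := kernel.lift _ (kernel.ι _) (by
    rw [← cancel_mono (kernel.ι h.π), ← cancel_mono h.i, Category.assoc, Category.assoc,
      kernel.lift_ι_assoc, h.f'_i, kernel.condition, zero_comp, zero_comp])
  hom_inv_id := by
    rw [← cancel_mono (kernel.ι _)]
    simp
  inv_hom_id := by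
    rw [← cancel_mono (kernel.ι _)]
    simp

include G in
lemma isPreservedBy_of_epi {S : ShortComplex ℬ} (h : S.LeftHomologyData)
    (h1 : Epi (G.map h.π)) (h2 : Epi (G.map (bLift h))) : h.IsPreservedBy G where
  g := inferInstance
  f' := by
    apply preservesColimit_of_preserves_colimit_cocone h.hπ'
    refine (isColimitMapCoconeCoforkEquiv' G h.f'_π).symm ?_
    -- exactness of `G X₁ → G Z → G H`
    have hα : ((scα h).map G).Exact :=
      (scα_shortExact h).exact.map_of_mono_of_preservesKernel G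
        (scα_shortExact h).mono_f inferInstance
    let T : ShortComplex 𝒞 := ShortComplex.mk (G.map h.f') (G.map h.π)
      (by rw [← G.map_comp, h.f'_π, G.map_zero])
    let φ : T ⟶ (scα h).map G :=
      { τ₁ := G.map (bLift h)
        τ₂ := 𝟙 _
        τ₃ := 𝟙 _
        comm₁₂ := by
          change G.map (bLift h) ≫ G.map (kernel.ι h.π) = G.map h.f' ≫ 𝟙 _
          rw [← G.map_comp, kernel.lift_ι, Category.comp_id]
        comm₂₃ := by
          change 𝟙 _ ≫ G.map h.π = G.map h.π ≫ 𝟙 _
          rw [Category.id_comp, Category.comp_id] }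
    haveI : Epi φ.τ₁ := h2
    haveI : IsIso φ.τ₂ := inferInstanceAs (IsIso (𝟙 (G.obj h.K)))
    haveI : Mono φ.τ₃ := inferInstanceAs (Mono (𝟙 (G.obj h.H)))
    have hT : T.Exact := (ShortComplex.exact_iff_of_epi_of_isIso_of_mono φ).mpr hα
    haveI : Epi T.g := h1
    exact hT.gIsCokernel


section Complex

variable {G} {P : ℬ → Prop} (hP : AcycClass G P) (K : CochainComplex ℬ ℕ)

include hP in
lemma P_kernel_d (n : ℕ) (hn : P (K.cycles n)) (i : ℕ) (hi : i = n) :
    P (kernel (K.d i (n + 1))) := by
  subst hi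
  have e : K.cycles i ≅ kernel (K.d i (i + 1)) :=
    IsLimit.conePointUniqueUpToIso (K.cyclesIsKernel i (i + 1) (by simp))
      (limit.isLimit (parallelPair (K.d i (i + 1)) 0))
  exact hP.iso e hn

include hP in
lemma P_cycles_succ (hK : ∀ n, P (K.X n)) (hH : ∀ n, P (K.homology n)) (n : ℕ)
    (hn : P (K.cycles n)) :
    P (kernel (bLift (K.sc (n + 1)).leftHomologyData)) ∧
    P (kernel (K.sc (n + 1)).leftHomologyData.π) ∧ P (K.cycles (n + 1)) := by
  have h1 : P (kernel (bLift (K.sc (n + 1)).leftHomologyData)) :=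
    hP.iso (kerBLiftIso _).symm (P_kernel_d hP K n hn _ (by simp))
  have hB : P (kernel (K.sc (n + 1)).leftHomologyData.π) :=
    hP.coker (scβ _) (scβ_shortExact _) h1 (hK _)
  have hH' : P (K.sc (n + 1)).leftHomologyData.H :=
    hP.iso (K.sc (n + 1)).leftHomologyIso.symm (hH (n + 1))
  exact ⟨h1, hB, hP.ext (scα _) (scα_shortExact _) hB hH'⟩

include hP in
lemma P_cycles (hK : ∀ n, P (K.X n)) (hH : ∀ n, P (K.homology n)) : ∀ n, P (K.cycles n)
  | 0 => hP.iso K.isoHomologyπ₀.symm (hH 0)
  | n + 1 => (P_cycles_succ hP K hK hH n (P_cycles hK hH n)).2.2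

include hP in
/-- **degenerate composite**: `G` preserves the homology of `K`. -/
theorem preservesLeftHomologyOf (hK : ∀ n, P (K.X n)) (hH : ∀ n, P (K.homology n)) (n : ℕ) :
    G.PreservesLeftHomologyOf (K.sc n) := by
  cases n with
  | zero =>
    exact Functor.preservesLeftHomology_of_zero_f G _ (K.shape _ _ (by simp))
  | succ n =>
    obtain ⟨h1, hB, -⟩ := P_cycles_succ hP K hK hH n (P_cycles hP K hK hH n)
    haveI := isPreservedBy_of_epi G (K.sc (n + 1)).leftHomologyData
      (hP.epi (scα _) (scα_shortExact _) hB) (hP.epi (scβ _) (scβ_shortExact _) h1)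
    exact Functor.PreservesLeftHomologyOf.mk' G (K.sc (n + 1)).leftHomologyData

end Complex

end Groth.Agent.LD.RS
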