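import Groth.Agent.Lib.Lead.RS.HDelta
import Groth.Agent.Lib.Lead.RS.Natural
import Groth.Agent.Lib.Lead.SC.LerayDeg
import Groth.Agent.Lib.Lead.RP.ToAb

/-! # The global sections functor on `O_S`-modules and its acyclic objects. -/

set_option autoImplicit false
universe u
open CategoryTheory Limits Opposite Abelian TopologicalSpace AlgebraicGeometry

namespace Groth.Agent.LD.RS

open Groth.Agent.H8.LC Groth.Agent.LD

variable (S : Scheme.{u})

/-- the global sections functor. -/
noncomputable abbrev ΓF : S.Modules ⥤ AddCommGrpCat.{u} :=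
  SC.toAbF S ⋙ sheafToPresheaf (SC.JX S) AddCommGrpCat.{u} ⋙ (evaluation _ _).obj (op ⊤)

instance : (ΓF S).Additive := by infer_instance
instance : PreservesFiniteLimits (ΓF S) := by infer_instance

/-- higher cohomology vanishes. -/
def HAcyc (N : S.Modules) : Prop := ∀ p : ℕ, Subsingleton (Coh.HH S N (p + 1))

variable {S}

lemma hAcyc_of_iso {N N' : S.Modules} (e : N ≅ N') (h : HAcyc S N) : HAcyc S N' := fun p =>
  @Equiv.subsingleton _ _ ((HF S (p + 1)).mapIso e).addCommGroupIsoToAddEquiv.symm.toEquiv (h p)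

theorem acycClass : AcycClass (ΓF S) (HAcyc S) where
  iso e h := hAcyc_of_iso e h
  epi T hT h := by
    rw [AddCommGrpCat.epi_iff_surjective]
    exact SC.surjective_app_top_of_h1Zero hT (SC.h1Zero_of_HH _ (h 0))
  coker T hT h1 h2 p := by
    refine subsingleton_of_forall_eq 0 fun x => ?_
    obtain ⟨x₂, hx₂⟩ := Ext.covariant_sequence_exact₃.{u, u, u+1}
      (C := Sheaf (SC.JX S) AddCommGrpCat.{u}) _ (SC.shortExact_toSheaf hT) x
      (rfl : p + 1 + 1 = p + 2) (@Subsingleton.elim _ (h1 (p + 1)) _ _)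
    have h0 : x₂ = 0 := @Subsingleton.elim _ (h2 p) _ _
    rw [← hx₂, h0, Ext.zero_comp]
    rfl
  ext T hT h1 h3 p := by
    refine subsingleton_of_forall_eq 0 fun x => ?_
    obtain ⟨x₁, hx₁⟩ := Ext.covariant_sequence_exact₂.{u, u, u+1}
      (C := Sheaf (SC.JX S) AddCommGrpCat.{u}) _ (SC.shortExact_toSheaf hT) x
      (@Subsingleton.elim _ (h3 p) _ _)
    have h0 : x₁ = 0 := @Subsingleton.elim _ (h1 p) _ _
    rw [← hx₁, h0, Ext.zero_comp]
    rfl


/-- sheaf cohomology is effaceable. -/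
theorem HΔ_effaceable (X : Scheme.{u}) : (HΔ X).Effaceable := by
  intro I _ n
  have hI : CohCx.IsTotallyAcyclic (ModSite.toAb (O := X.sheaf) I) :=
    @RP.isTotallyAcyclic_toAb_of_injective _ _ _ X.sheaf I ‹_›
  haveI : Subsingleton (Sheaf.H (Coh.toAb I) (n + 1)) :=
    SC.subsingleton_H_of_subsingleton_ext (T := (⊤ : X.Opens)) isTerminalTop _ _
      (SC.subsingleton_ext_of_isTotallyAcyclic _ _ hI _ n)
  change IsZero (AddCommGrpCat.of (Sheaf.H (Coh.toAb I) (n + 1)))
  exact AddCommGrpCat.isZero_of_subsingleton _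

/-- direct images of injective modules are acyclic. -/
theorem hAcyc_push_injective {X : Scheme.{u}} (f : X ⟶ S) (I : X.Modules) [Injective I] :
    HAcyc S ((Scheme.Modules.pushforward f).obj I) := by
  intro p
  have h : ∀ q : ℕ, IsZero (((SC.pushAb f.base).rightDerived (q + 1)).obj (Coh.toAb I)) :=
    fun q => RP.acyc_pushAb_of_injective f I (q + 1) (Nat.succ_pos q)
  obtain ⟨e⟩ := SC.leray_global f.base (Coh.toAb I) h (p + 1)
  have h0 : Subsingleton (Sheaf.H (Coh.toAb I) (p + 1)) :=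
    AddCommGrpCat.subsingleton_of_isZero (HΔ_effaceable X I p)
  exact @Equiv.subsingleton _ _ e.symm.toEquiv h0

/-- `Γ(S, f_* M) = H⁰(X, M)`. -/
noncomputable def e0 {X : Scheme.{u}} (f : X ⟶ S) :
    Scheme.Modules.pushforward f ⋙ ΓF S ≅ (HΔ X).F 0 :=
  NatIso.ofComponents
    (fun M => AddEquiv.toAddCommGrpIso
      (Sheaf.H.equiv₀ (Coh.toAb M) (T := (⊤ : X.Opens)) isTerminalTop).symm)
    (by
      intro M M' φ
      ext x
      exact (Sheaf.H.equiv₀_symm_naturality (T := (⊤ : X.Opens)) isTerminalTop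
        ((SC.toAbF X).map φ) x).symm)

end Groth.Agent.LD.RS
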