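import Groth.Agent.Lib.Helper8.LC.RDerIso
import Groth.Agent.Lib.Lead.SC.SerreCrit
import Groth.Agent.Lib.Lead.RP.Compare

/-! # Sheaf cohomology of `O_X`-modules as an effaceable δ-functor. -/

set_option autoImplicit false
universe u
open CategoryTheory Limits Opposite Abelian TopologicalSpace AlgebraicGeometry

namespace Groth.Agent.LD.RS

open Groth.Agent.H8.LC Groth.Agent.LD

variable (X : Scheme.{u})

/-- `M ↦ Hⁿ(X, M)` as a functor. -/
noncomputable abbrev HF (n : ℕ) : X.Modules ⥤ AddCommGrpCat.{u} :=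
  SC.toAbF X ⋙ Sheaf.functorH (SC.JX X) n

instance (n : ℕ) : (HF X n).Additive := by
  dsimp only [HF]; infer_instance

variable {X}

/-- the connecting homomorphism. -/
noncomputable abbrev Hδ {S : ShortComplex X.Modules} (hS : S.ShortExact) (n : ℕ) :
    (HF X n).obj S.X₃ ⟶ (HF X (n + 1)).obj S.X₁ :=
  AddCommGrpCat.ofHom ((SC.shortExact_toSheaf hS).extClass.postcomp _ rfl)

variable (X)

/-- sheaf cohomology as a δ-functor. -/
noncomputable def HΔ : DeltaFunctor X.Modules AddCommGrpCat.{u} where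
  F := HF X
  δ hS n := Hδ hS n
  δ_naturality {S S'} hS hS' φ n := by
    ext x
    let f : S.map (SC.toAbF X) ⟶ S'.map (SC.toAbF X) := (SC.toAbF X).mapShortComplex.map φ
    have h := ShortComplex.ShortExact.extClass_naturality.{u, u, u+1}
      (C := Sheaf (SC.JX X) AddCommGrpCat.{u}) (SC.shortExact_toSheaf hS)
      (SC.shortExact_toSheaf hS') f
    change (x.comp (SC.shortExact_toSheaf hS).extClass rfl).comp
        (Ext.mk₀ ((SheafOfModules.toSheaf X.ringCatSheaf).map φ.τ₁)) (add_zero (n+1)) =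
      (x.comp (Ext.mk₀ ((SheafOfModules.toSheaf X.ringCatSheaf).map φ.τ₃)) (add_zero n)).comp
        (SC.shortExact_toSheaf hS').extClass rfl
    rw [Ext.comp_assoc _ _ _ (add_zero n) (zero_add 1) (show n + 0 + 1 = n + 1 by omega),
      Ext.comp_assoc _ _ _ rfl (add_zero 1) (show n + 1 + 0 = n + 1 by omega)]
    congr 1
  map_comp_map {S} hS n := by
    rw [← Functor.map_comp, S.zero, Functor.map_zero]
  map_comp_δ {S} hS n := by
    ext x
    change Abelian.Ext.{u} _ ((SC.toAbF X).obj S.X₂) n at x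
    change (x.comp (Ext.mk₀ ((SC.toAbF X).map S.g)) (add_zero n)).comp
      (SC.shortExact_toSheaf hS).extClass rfl = 0
    have h := (SC.shortExact_toSheaf hS).comp_extClass.{u, u, u+1}
    change (Ext.mk₀ ((SC.toAbF X).map S.g)).comp (SC.shortExact_toSheaf hS).extClass
      (zero_add 1) = 0 at h
    rw [Ext.comp_assoc_of_second_deg_zero]
    exact (congrArg (fun z => x.comp z _) h).trans (Ext.comp_zero _ _ _ _ _)
  δ_comp_map {S} hS n := by
    ext x
    change Abelian.Ext.{u} _ ((SC.toAbF X).obj S.X₃) n at x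
    change (x.comp (SC.shortExact_toSheaf hS).extClass rfl).comp
      (Ext.mk₀ ((SC.toAbF X).map S.f)) (add_zero (n + 1)) = 0
    have h := (SC.shortExact_toSheaf hS).extClass_comp.{u, u, u+1}
    change (SC.shortExact_toSheaf hS).extClass.comp (Ext.mk₀ ((SC.toAbF X).map S.f))
      (add_zero 1) = 0 at h
    rw [Ext.comp_assoc_of_third_deg_zero]
    exact (congrArg (fun z => x.comp z _) h).trans (Ext.comp_zero _ _ _ _ _)
  mono₀ {S} hS := by
    haveI := (SC.shortExact_toSheaf hS).mono_f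
    exact Ext.mono_postcomp_mk₀_of_mono.{u, u, u+1}
      (C := Sheaf (SC.JX X) AddCommGrpCat.{u}) _ ((S.map (SC.toAbF X)).f)
  exact₂ {S} hS n := Ext.covariant_sequence_exact₂'.{u, u, u+1}
    (C := Sheaf (SC.JX X) AddCommGrpCat.{u}) _ (SC.shortExact_toSheaf hS) n
  exact₃ {S} hS n := Ext.covariant_sequence_exact₃'.{u, u, u+1}
    (C := Sheaf (SC.JX X) AddCommGrpCat.{u}) _ (SC.shortExact_toSheaf hS) n (n + 1) rfl
  exact₁ {S} hS n := Ext.covariant_sequence_exact₁'.{u, u, u+1}
    (C := Sheaf (SC.JX X) AddCommGrpCat.{u}) _ (SC.shortExact_toSheaf hS) n (n + 1) rfl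

end Groth.Agent.LD.RS
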