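import Groth.Agent.Lib.Lead.RS.Sections
import Groth.Agent.Lib.Lead.QC.SubExtRestrict
import Groth.Agent.Lib.Lead.QC.Fin

/-! # Sections of higher direct images over an affine open of the base:
`Γ(V, Rⁿ f_* M) ≃ₗ[Γ(Y, V)] Hⁿ(f⁻¹V, M)`. -/

set_option autoImplicit false
universe u
open CategoryTheory Limits Opposite Abelian TopologicalSpace AlgebraicGeometry

namespace Groth.Agent.LD.RS

open Groth.Agent.LD

variable {Y : Scheme.{u}}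

/-- `Γ(N, V) ≃ Γ(N|_V, ⊤)`. -/
noncomputable def resTopEquiv (N : Y.Modules) (V : Y.Opens) :
    Γ(N, V) ≃+ Γ(N.restrict V.ι, ⊤) where
  toFun t := N.presheaf.map (homOfLE V.ι_image_top.le).op t
  invFun t := N.presheaf.map (homOfLE V.ι_image_top.ge).op t
  left_inv t := by
    dsimp only
    rw [QC.res_res, QC.res_self]
  right_inv t := by
    dsimp only
    rw [QC.res_res, QC.res_self]
  map_add' := map_add _

lemma resTopEquiv_smul (N : Y.Modules) (V : Y.Opens) (b : Γ(Y, V)) (t : Γ(N, V)) :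
    resTopEquiv N V (b • t) = (V.topIso.inv b : Γ(V.toScheme, ⊤)) • resTopEquiv N V t := by
  change N.presheaf.map (homOfLE V.ι_image_top.le).op (b • t) =
    (show Γ(N, V.ι ''ᵁ ⊤) from
      @HSMul.hSMul Γ(Y, V.ι ''ᵁ ⊤) Γ(N, V.ι ''ᵁ ⊤) Γ(N, V.ι ''ᵁ ⊤) _
        ((V.ι.appIso ⊤).inv.hom (V.topIso.inv.hom b))
        (N.presheaf.map (homOfLE V.ι_image_top.le).op t))
  erw [Scheme.Modules.map_smul]
  rw [Scheme.Opens.ι_appIso]
  rfl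


variable {X : Scheme.{u}} (f : X ⟶ Y) [HasInjectiveResolutions X.Modules]
  [QuasiCompact f] [QuasiSeparated f]

lemma toGlobal_toSpecΓ (V : Y.Opens) (b : Γ(Y, V)) :
    Coh.toGlobal ((f ∣_ V) ≫ V.toSpecΓ) b = pb (f ∣_ V) (V.topIso.inv.hom b) := by
  change ((f ∣_ V) ≫ V.toSpecΓ).appTop.hom ((Scheme.ΓSpecIso Γ(Y, V)).inv.hom b) =
    (f ∣_ V).appTop.hom (V.topIso.inv.hom b)
  rw [Scheme.Hom.comp_appTop, Scheme.Opens.toSpecΓ_appTop]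
  change (f ∣_ V).appTop.hom (V.topIso.inv.hom ((Scheme.ΓSpecIso Γ(Y, V)).hom.hom
    ((Scheme.ΓSpecIso Γ(Y, V)).inv.hom b))) = _
  congr 2
  exact ConcreteCategory.congr_hom (Scheme.ΓSpecIso Γ(Y, V)).inv_hom_id b

/-- **sections of higher direct images over an affine open of the base.** -/
theorem nonempty_sectionsOn_linearEquiv (V : Y.Opens) (hV : IsAffineOpen V) (M : X.Modules)
    [M.IsQuasicoherent] (n : ℕ) :
    letI : (f ⁻¹ᵁ V).toScheme.Over (Spec (CommRingCat.of Γ(Y, V))) := ⟨(f ∣_ V) ≫ V.toSpecΓ⟩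
    Nonempty (Γ(RN f M n, V) ≃ₗ[Γ(Y, V)]
      Coh.HH (f ⁻¹ᵁ V).toScheme (M.restrict (f ⁻¹ᵁ V).ι) n) := by
  letI : (f ⁻¹ᵁ V).toScheme.Over (Spec (CommRingCat.of Γ(Y, V))) := ⟨(f ∣_ V) ≫ V.toSpecΓ⟩
  haveI := QCQS.hasInjRes (f ⁻¹ᵁ V).toScheme
  haveI : IsAffine V.toScheme := hV
  obtain ⟨e⟩ := QCQS.nonempty_restrict_Rpush_iso f V M n
  haveI : (M.restrict (f ⁻¹ᵁ V).ι).IsQuasicoherent := QC.qc_restrict _ M
  let e₀ := secEquiv (f ∣_ V) (M.restrict (f ⁻¹ᵁ V).ι) n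
  let e₁ : Γ((RN f M n).restrict V.ι, ⊤) ≃+ Γ(RN (f ∣_ V) (M.restrict (f ⁻¹ᵁ V).ι) n, ⊤) :=
    (((Scheme.Modules.toPresheaf V.toScheme).mapIso e).app (op ⊤)).addCommGroupIsoToAddEquiv
  let e₂ := resTopEquiv (RN f M n) V
  refine ⟨{ (e₂.trans (e₁.trans e₀)) with map_smul' := fun b t => ?_ }⟩
  change e₀ (e₁ (e₂ (b • t))) =
    (Coh.toGlobal ((f ∣_ V) ≫ V.toSpecΓ) b : Coh.Γtop (f ⁻¹ᵁ V).toScheme) • e₀ (e₁ (e₂ t))
  rw [toGlobal_toSpecΓ, resTopEquiv_smul]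
  have h1 : e₁ ((V.topIso.inv.hom b : Γ(V.toScheme, ⊤)) • e₂ t) =
      (V.topIso.inv.hom b : Γ(V.toScheme, ⊤)) • e₁ (e₂ t) :=
    Scheme.Modules.Hom.app_smul e.hom (V.topIso.inv.hom b) (e₂ t)
  exact (congrArg e₀ h1).trans (secEquiv_smul (f ∣_ V) _ n (V.topIso.inv.hom b) (e₁ (e₂ t)))

end Groth.Agent.LD.RS
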